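import Mathlib
import Cfsg.Agent.Lib.KInf.StrongFusion
import Cfsg.Agent.Lib.PLocal.QdSection
import Cfsg.Agent.Lib.PReduced.QdAff

/-!
# Fusion in `Qd(p)`: a central element of a Sylow subgroup is conjugate to a noncentral element

Consequently the lower K-infinity subgroup does not control strong fusion in a group isomorphic to `Qd(p)`.
-/

set_option autoImplicit false

open scoped commutatorElement MatrixGroups

namespace Cfsg.Agent.Lib.KInf.QdFusion

open Cfsg Subgroup
open Cfsg.Agent.Lib.PReduced.Qd Cfsg.Agent.Lib.PLocal.QdSection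

universe u

variable {p : ℕ} [hpf : Fact p.Prime]

local notation "SLp" => Matrix.SpecialLinearGroup (Fin 2) (ZMod p)

lemma exists_sl2_first (v : Fin 2 → ZMod p) (hv : v ≠ 0) :
    ∃ B : SLp, B.1.mulVec ![1, 0] = v := by
  by_cases h0 : v 0 = 0
  · have h1 : v 1 ≠ 0 := by
      intro h1
      apply hv
      ext i
      fin_cases i
      · exact h0
      · exact h1
    refine ⟨⟨!![0, -(v 1)⁻¹; v 1, 0], ?_⟩, ?_⟩
    · rw [Matrix.det_fin_two_of]
      field_simp
      ring
    · ext i
      fin_cases i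
      · simp [Matrix.mulVec, dotProduct, Fin.sum_univ_two, h0]
      · simp [Matrix.mulVec, dotProduct, Fin.sum_univ_two]
  · refine ⟨⟨!![v 0, 0; v 1, (v 0)⁻¹], ?_⟩, ?_⟩
    · rw [Matrix.det_fin_two_of]
      field_simp
      ring
    · ext i
      fin_cases i
      · simp [Matrix.mulVec, dotProduct, Fin.sum_univ_two]
      · simp [Matrix.mulVec, dotProduct, Fin.sum_univ_two]

lemma exists_sl2_trans (v w : Fin 2 → ZMod p) (hv : v ≠ 0) (hw : w ≠ 0) :
    ∃ A : SLp, A.1.mulVec v = w := by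
  obtain ⟨B, hB⟩ := exists_sl2_first v hv
  obtain ⟨C, hC⟩ := exists_sl2_first w hw
  refine ⟨C * B⁻¹, ?_⟩
  have h1 : (B⁻¹).1.mulVec v = ![1, 0] := by
    rw [← hB, Matrix.mulVec_mulVec]
    have : (B⁻¹).1 * B.1 = 1 := by
      rw [← Matrix.SpecialLinearGroup.coe_mul, inv_mul_cancel, Matrix.SpecialLinearGroup.coe_one]
    rw [this, Matrix.one_mulVec]
  show ((C * B⁻¹ : SLp) : Matrix (Fin 2) (Fin 2) (ZMod p)).mulVec v = w
  rw [Matrix.SpecialLinearGroup.coe_mul, ← Matrix.mulVec_mulVec, h1, hC]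

/-- The translation subgroup of `Qd(p)`. -/
abbrev VV (p : ℕ) [Fact p.Prime] : Subgroup (QdG (ZMod p)) :=
  (lin : QdG (ZMod p) →* Matrix.SpecialLinearGroup (Fin 2) (ZMod p)).ker

lemma VV_le_sylow (T : Sylow p (QdG (ZMod p))) : VV p ≤ (T : Subgroup (QdG (ZMod p))) := by
  have hO : IsPGroup p (VV p) := isPGroup_ker_lin
  have hN : normalizer ((VV p : Subgroup _) : Set (QdG (ZMod p))) = ⊤ :=
    Subgroup.normalizer_eq_top_iff.2 inferInstance
  have h := IsPGroup.to_sup_of_normal_right' T.isPGroup' hO (by rw [hN]; exact le_top)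
  have heq := T.is_maximal' h le_sup_left
  rw [← heq]
  exact le_sup_right

lemma index_VV : (VV p).index = Nat.card SLp := by
  rw [Subgroup.index_ker]
  have : (lin : QdG (ZMod p) →* SLp).range = ⊤ := MonoidHom.range_eq_top.2 lin_surjective
  rw [this]
  exact Nat.card_congr Subgroup.topEquiv.toEquiv

lemma dvd_card_sl2 : p ∣ Nat.card SLp := by
  rw [Cfsg.Agent.Lib.Classical.SL2Sylow.card_SL2, ZMod.card]
  exact dvd_mul_right _ _

/-- The key fusion in `Qd(p)`. -/
theorem qd_fusion (T : Sylow p (QdG (ZMod p))) :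
    ∃ a b g : QdG (ZMod p), a ∈ (T : Subgroup (QdG (ZMod p))) ∧ b ∈ (T : Subgroup (QdG (ZMod p))) ∧
      (∀ t ∈ (T : Subgroup (QdG (ZMod p))), t * a = a * t) ∧ (∃ t ∈ (T : Subgroup (QdG (ZMod p))), t * b ≠ b * t) ∧
      g * a * g⁻¹ = b ∧ a ≠ 1 ∧ b ≠ 1 := by
  classical
  have hVp : IsPGroup p (VV p) := isPGroup_ker_lin
  have hVT := VV_le_sylow T
  have hne : VV p ≠ ⊥ := by
    intro h
    have h1 : (mk (1 : SLp) ![1, 0] : QdG (ZMod p)) ∈ VV p := by
      show lin _ = 1
      rw [lin_mk]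
    rw [h, Subgroup.mem_bot] at h1
    have h2 := congrArg tv h1
    rw [tv_mk, tv_one] at h2
    have h3 := congrFun h2 0
    simp at h3
  obtain ⟨a, haV, ha1, hac⟩ := Cfsg.Agent.Lib.KInf.Clifford.exists_fixed_conj (R := (T : Subgroup (QdG (ZMod p))))
    hVp hne (fun r _ m hm => (inferInstance : (VV p).Normal).conj_mem m hm r)
    (fun r hr => by
      obtain ⟨k, hk⟩ := T.isPGroup' ⟨r, hr⟩
      have hk' : r ^ (p ^ k) = 1 := congrArg Subtype.val hk
      exact ⟨k, fun m _ => by rw [hk']; group⟩)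
  -- an element of `T` outside `V`
  have hex : ∃ t ∈ (T : Subgroup (QdG (ZMod p))), lin t ≠ 1 := by
    by_contra hno
    push Not at hno
    have hle : (T : Subgroup (QdG (ZMod p))) ≤ VV p := fun t ht => hno t ht
    have heq : (T : Subgroup (QdG (ZMod p))) = VV p := le_antisymm hle hVT
    have h1 := T.not_dvd_index
    rw [heq, index_VV] at h1
    exact h1 dvd_card_sl2
  obtain ⟨t, htT, ht1⟩ := hex
  -- a vector moved by `t`
  have hex2 : ∃ s : Fin 2 → ZMod p, (lin t).1.mulVec s ≠ s := by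
    by_contra hno
    push Not at hno
    exact ht1 (eq_one_of_mulVec_eq hno)
  obtain ⟨s, hs⟩ := hex2
  have hsb : (mk 1 s : QdG (ZMod p)) ∈ VV p := by
    show lin _ = 1
    rw [lin_mk]
  have hcomm : t * mk 1 s ≠ mk 1 s * t := by
    intro h
    have h2 := conj_translation t s
    rw [h, mul_inv_cancel_right] at h2
    have h3 := congrArg tv h2
    rw [tv_mk, tv_mk] at h3
    exact hs h3.symm
  have hs0 : s ≠ 0 := by
    rintro rfl
    apply hcomm
    rw [mk_one_zero]
    group
  have ha_eq := mem_ker_lin_iff_eq.1 haV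
  have hv0 : tv a ≠ 0 := by
    intro h
    rw [h, mk_one_zero] at ha_eq
    exact ha1 ha_eq
  obtain ⟨A, hA⟩ := exists_sl2_trans (tv a) s hv0 hs0
  refine ⟨a, mk 1 s, mk A 0, hVT haV, hVT hsb, fun u hu => (hac u hu), ⟨t, htT, hcomm⟩, ?_, ha1, ?_⟩
  · have h2 := conj_translation (mk A 0) (tv a)
    rw [← ha_eq, lin_mk, hA] at h2
    exact h2
  · intro h
    rw [h] at hcomm
    exact hcomm (by group)

/-! ### Class two Sylow subgroups of order `p^3` -/

lemma commutator_le_center_of_card {P : Type*} [Group P] [Finite P] (hP : Nat.card P = p ^ 3) :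
    ∀ x y : P, ⁅x, y⁆ ∈ Subgroup.center P := by
  have hpg : IsPGroup p P := IsPGroup.of_card hP
  haveI : Nontrivial P := by
    apply Finite.one_lt_card_iff_nontrivial.1
    rw [hP]
    exact Nat.one_lt_pow (by norm_num) (Fact.out : p.Prime).one_lt
  have hZ : Nontrivial (Subgroup.center P) := hpg.center_nontrivial
  have hQ : IsPGroup p (P ⧸ Subgroup.center P) := hpg.to_quotient _
  have hcard : Nat.card (P ⧸ Subgroup.center P) * Nat.card (Subgroup.center P) = p ^ 3 := by
    rw [← hP, mul_comm]; exact (Subgroup.card_mul_index (Subgroup.center P) )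
  have hQc : ∀ a b : P ⧸ Subgroup.center P, a * b = b * a := by
    obtain ⟨k, hk⟩ := IsPGroup.iff_card.1 hQ
    obtain ⟨l, hl⟩ := IsPGroup.iff_card.1 (hpg.to_subgroup (Subgroup.center P))
    rw [hk, hl, ← pow_add] at hcard
    have hpp : 1 < p := (Fact.out : p.Prime).one_lt
    have hkl : k + l = 3 := Nat.pow_right_injective (Fact.out : p.Prime).two_le hcard
    have hl1 : l ≠ 0 := by
      rintro rfl
      have h1 := Finite.one_lt_card (α := Subgroup.center P)
      rw [hl] at h1
      simp at h1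
    have hk2 : k ≤ 2 := by omega
    interval_cases k
    · haveI : Subsingleton (P ⧸ Subgroup.center P) := by
        apply (Nat.card_eq_one_iff_unique.1 (by simpa using hk)).1
      intro a b
      exact Subsingleton.elim _ _
    · haveI : Fact p.Prime := inferInstance
      have hc : IsCyclic (P ⧸ Subgroup.center P) :=
        isCyclic_of_prime_card (p := p) (by simpa using hk)
      have hc2 : IsMulCommutative (P ⧸ Subgroup.center P) := IsCyclic.isMulCommutative
      intro a b
      exact hc2.is_comm.comm a b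
    · have hc := IsPGroup.isMulCommutative_of_card_eq_prime_sq (p := p) hk
      intro a b
      exact hc.is_comm.comm a b
  intro x y
  have h1 := hQc (x : P ⧸ Subgroup.center P) (y : P ⧸ Subgroup.center P)
  rw [← QuotientGroup.mk_mul, ← QuotientGroup.mk_mul, QuotientGroup.eq] at h1
  have h2 : ⁅x, y⁆ = x * y * (y * x)⁻¹ := by
    rw [commutatorElement_def]; group
  rw [h2]
  have h3 : (x * y)⁻¹ * (y * x) ∈ Subgroup.center P := h1
  have h4 := Subgroup.inv_mem _ h3
  have h5 : ((x * y)⁻¹ * (y * x))⁻¹ = (y * x)⁻¹ * (x * y) := by group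
  rw [h5] at h4
  have h6 := (inferInstance : (Subgroup.center P).Normal).conj_mem _ h4 (y * x)
  have h7 : (y * x) * ((y * x)⁻¹ * (x * y)) * (y * x)⁻¹ = x * y * (y * x)⁻¹ := by group
  rwa [h7] at h6

/-- `K_∞(P) = P` for a group of class at most two. -/
lemma kInfLower_eq_top_of_classTwo {P : Type u} [Group P]
    (h : ∀ x y : P, ⁅x, y⁆ ∈ Subgroup.center P) : kInfLower P = ⊤ := by
  have hc : ∀ x y : P, ⁅x, y⁆ ∈ centralizer ((⊤ : Subgroup P) : Set P) := by
    intro x y
    rw [Subgroup.mem_centralizer_iff]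
    intro z _
    exact (Subgroup.mem_center_iff.1 (h x y)) z
  have hmem : (⊤ : Subgroup P) ∈ kLowerStarFamily (kSeqOdd P 0) := by
    refine ⟨?_, ?_, ?_⟩
    · show ⁅(⊤ : Subgroup P), (⊤ : Subgroup P)⁆ ≤ centralizer ((⊤ : Subgroup P) : Set P)
      rw [Subgroup.commutator_le]
      intro x _ y _
      exact hc x y
    · have : normalizer (((⊤ : Subgroup P) : Subgroup P) : Set P) = ⊤ :=
        Subgroup.normalizer_eq_top_iff.2 inferInstance
      rw [this]
      exact le_top
    · intro A _ _ _ _ _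
      rw [Subgroup.commutator_le]
      intro x _ y _
      exact ⟨Subgroup.mem_top _, hc x y⟩
  have h1 : (⊤ : Subgroup P) ≤ kSeqEven P 0 := le_sSup hmem
  have h2 : kSeqEven P 0 ≤ kInfLower P := le_iSup (kSeqEven P) 0
  exact top_le_iff.1 (h1.trans h2)

lemma card_sylow_qd (hX : Nat.card (QdG (ZMod p)) = p ^ 3 * (p ^ 2 - 1)) (T : Sylow p (QdG (ZMod p))) :
    Nat.card (T : Subgroup (QdG (ZMod p))) = p ^ 3 := by
  have hp : p.Prime := Fact.out
  have h1 := Sylow.card_eq_multiplicity T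
  have hpp : 1 < p := hp.one_lt
  have hndvd : ¬ p ∣ p ^ 2 - 1 := by
    intro hd
    have h2 : p ∣ p ^ 2 := dvd_pow_self p (by norm_num)
    have h3 : p ∣ p ^ 2 - (p ^ 2 - 1) := Nat.dvd_sub h2 hd
    have h4 : p ^ 2 - (p ^ 2 - 1) = 1 := by
      have : 1 ≤ p ^ 2 := Nat.one_le_pow _ _ (by omega)
      omega
    rw [h4] at h3
    exact hp.one_lt.ne' (Nat.dvd_one.1 h3)
  have hne : p ^ 2 - 1 ≠ 0 := by
    have : p ^ 2 ≥ 4 := by nlinarith
    omega
  rw [h1, hX, Nat.factorization_mul (by positivity) hne, Nat.Prime.factorization_pow hp]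
  simp [Nat.factorization_eq_zero_of_not_dvd hndvd]

lemma card_qd : Nat.card (QdG (ZMod p)) = p ^ 3 * (p ^ 2 - 1) := by
  have hp : p.Prime := Fact.out
  have hpp : 1 < p := hp.one_lt
  rw [Cfsg.Agent.Lib.PReduced.QdAff.card_QdG, Cfsg.Agent.Lib.Classical.SL2Sylow.card_SL2,
    Nat.card_fun]
  simp only [Nat.card_eq_fintype_card, ZMod.card, Fintype.card_fin]
  have h1 : (p - 1) * (p + 1) = p ^ 2 - 1 := by
    have : p ^ 2 - 1 = p ^ 2 - 1 ^ 2 := by simp
    rw [this, Nat.sq_sub_sq]
    ring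
  rw [h1]
  ring

/-- In a group isomorphic to `Qd(p)`, the lower K-infinity subgroup of any Sylow subgroup does not control
strong fusion. -/
theorem not_controls_kInfLower {X : Type u} [Group X] [Finite X] (e : X ≃* QdG (ZMod p))
    (T : Sylow p X) : ¬ ControlsStrongFusion p (inducedFunctor kInfLower (T : Subgroup X)) := by
  classical
  rintro ⟨T₁, hT₁, hctl⟩
  have hcardX : Nat.card X = p ^ 3 * (p ^ 2 - 1) := by
    rw [Nat.card_congr e.toEquiv]; exact card_qd
  -- the Sylow subgroup `T` has order `p^3`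
  have hcardT : Nat.card (T : Subgroup X) = p ^ 3 := by
    have hp : p.Prime := Fact.out
    have h1 := Sylow.card_eq_multiplicity T
    have hpp : 1 < p := hp.one_lt
    have hndvd : ¬ p ∣ p ^ 2 - 1 := by
      intro hd
      have h2 : p ∣ p ^ 2 := dvd_pow_self p (by norm_num)
      have h3 : p ∣ p ^ 2 - (p ^ 2 - 1) := Nat.dvd_sub h2 hd
      have h4 : p ^ 2 - (p ^ 2 - 1) = 1 := by
        have : 1 ≤ p ^ 2 := Nat.one_le_pow _ _ (by omega)
        omega
      rw [h4] at h3
      exact hp.one_lt.ne' (Nat.dvd_one.1 h3)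
    have hne : p ^ 2 - 1 ≠ 0 := by
      have : p ^ 2 ≥ 4 := by nlinarith
      omega
    rw [h1, hcardX, Nat.factorization_mul (by positivity) hne, Nat.Prime.factorization_pow hp]
    simp [Nat.factorization_eq_zero_of_not_dvd hndvd]
  have hK : inducedFunctor kInfLower (T : Subgroup X) = (T : Subgroup X) := by
    show (kInfLower ↥(T : Subgroup X)).map (T : Subgroup X).subtype = _
    rw [kInfLower_eq_top_of_classTwo (commutator_le_center_of_card hcardT), ← MonoidHom.range_eq_map,
      Subgroup.range_subtype]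
  rw [hK] at hT₁ hctl
  have hTT₁ : T₁ = T := by
    apply Sylow.ext
    exact T.is_maximal' T₁.isPGroup' hT₁
  subst hTT₁
  -- transport the Sylow subgroup
  have hT'p : IsPGroup p ((T₁ : Subgroup X).map e.toMonoidHom) := T₁.isPGroup'.map _
  have hT'i : ¬ p ∣ ((T₁ : Subgroup X).map e.toMonoidHom).index := by
    rw [Subgroup.index_map_of_bijective e.bijective]
    exact T₁.not_dvd_index
  let T' : Sylow p (QdG (ZMod p)) := hT'p.toSylow hT'i
  have hT' : (T' : Subgroup (QdG (ZMod p))) = (T₁ : Subgroup X).map e.toMonoidHom := rfl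
  obtain ⟨a, b, g, ha, hb, hac, ⟨t, ht, htb⟩, hg, -, -⟩ := qd_fusion T'
  have hmem : ∀ x, x ∈ (T' : Subgroup (QdG (ZMod p))) → e.symm x ∈ (T₁ : Subgroup X) := by
    intro x hx
    rw [hT'] at hx
    obtain ⟨y, hy, rfl⟩ := hx
    have : e.symm (e.toMonoidHom y) = y := by simp
    rw [this]
    exact hy
  have ha' := hmem a ha
  have hb' := hmem b hb
  have hA : ({e.symm a} : Set X) ⊆ (T₁ : Subgroup X) := by
    rintro _ rfl
    exact ha'
  obtain ⟨-, h2⟩ := hctl _ hA
  obtain ⟨x, hx, hxa⟩ := h2 (e.symm g) (by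
    rintro _ ⟨c, rfl, rfl⟩
    have : e.symm g * e.symm a * (e.symm g)⁻¹ = e.symm b := by
      rw [← hg]; simp
    show e.symm g * e.symm a * (e.symm g)⁻¹ ∈ (T₁ : Subgroup X)
    rw [this]
    exact hb')
  have h3 := hxa _ rfl
  have h4 : e.symm g * e.symm a * (e.symm g)⁻¹ = e.symm b := by
    rw [← hg]; simp
  rw [h4] at h3
  -- `e.symm a` is central in `T₁`, hence so is its conjugate under the normalizer of `T₁`
  apply htb
  have hca : ∀ y ∈ (T₁ : Subgroup X), y * e.symm a = e.symm a * y := by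
    intro y hy
    have h5 := hac (e y) (by rw [hT']; exact ⟨y, hy, rfl⟩)
    have h6 := congrArg e.symm h5
    simpa using h6
  have htT : e.symm t ∈ (T₁ : Subgroup X) := hmem t ht
  have hconj : x⁻¹ * e.symm t * x ∈ (T₁ : Subgroup X) := by
    have h7 := (Subgroup.mem_normalizer_iff.1 (Subgroup.inv_mem _ hx) (e.symm t)).1 htT
    simpa using h7
  have h8 := hca _ hconj
  have h9 : e.symm t * e.symm b = e.symm b * e.symm t := by
    rw [h3]
    have : x⁻¹ * e.symm t * x * e.symm a = e.symm a * (x⁻¹ * e.symm t * x) := h8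
    calc e.symm t * (x * e.symm a * x⁻¹)
        = x * ((x⁻¹ * e.symm t * x) * e.symm a) * x⁻¹ := by group
      _ = x * (e.symm a * (x⁻¹ * e.symm t * x)) * x⁻¹ := by rw [this]
      _ = x * e.symm a * x⁻¹ * e.symm t := by group
  have h10 := congrArg e h9
  simpa using h10

end Cfsg.Agent.Lib.KInf.QdFusion
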